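import Mathlib.RingTheory.NoetherNormalization

/-!
Noether normalisation with coordinates that have integer coefficients.
-/

open private hom2_isIntegral hom2 from Mathlib.RingTheory.NoetherNormalization

set_option autoImplicit false
universe u

open MvPolynomial

namespace Groth.Agent.IntNoether

theorem exists_int_coeff {k : Type u} [Field k] (n : ℕ) (I : Ideal (MvPolynomial (Fin n) k)) (hI : I ≠ ⊤) :
    ∃ (r : ℕ) (y : Fin r → MvPolynomial (Fin n) k),
      (∀ i, y i ∈ Set.range (MvPolynomial.map (Int.castRingHom k) : MvPolynomial (Fin n) ℤ → MvPolynomial (Fin n) k)) ∧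
      Function.Injective ((Ideal.Quotient.mkₐ k I).comp (MvPolynomial.aeval y)) ∧
      ((Ideal.Quotient.mkₐ k I).comp (MvPolynomial.aeval y)).toRingHom.IsIntegral := by
  induction n with
  | zero =>
    haveI : Nontrivial (MvPolynomial (Fin 0) k ⧸ I) := Ideal.Quotient.nontrivial_iff.mpr hI
    refine ⟨0, X, fun i => i.elim0, ?_, ?_⟩
    · rw [aeval_X_left, AlgHom.comp_id]
      intro a b hab
      obtain ⟨c, rfl⟩ := MvPolynomial.C_surjective (Fin 0) a
      obtain ⟨d, rfl⟩ := MvPolynomial.C_surjective (Fin 0) b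
      exact congrArg _ ((algebraMap k (MvPolynomial (Fin 0) k ⧸ I)).injective hab)
    · rw [aeval_X_left, AlgHom.comp_id]
      exact RingHom.isIntegral_of_surjective _ Ideal.Quotient.mk_surjective
  | succ d hd =>
    by_cases eqi : I = ⊥
    · refine ⟨d + 1, X, fun i => ⟨X i, map_X _ i⟩, ?_, ?_⟩
      · rw [aeval_X_left, AlgHom.comp_id]
        exact ((Ideal.Quotient.mk_bijective_iff_eq_bot I).2 eqi).1
      · rw [aeval_X_left, AlgHom.comp_id]
        exact RingHom.isIntegral_of_surjective _ Ideal.Quotient.mk_surjective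
    · obtain ⟨f, fi, fne⟩ := Submodule.exists_mem_ne_zero_of_ne_bot eqi
      let w₀ : Fin d → MvPolynomial (Fin (d + 1)) ℤ :=
        fun j => X j.succ - X 0 ^ ((2 + f.totalDegree) ^ (j.succ : ℕ))
      let h : MvPolynomial (Fin d) k →ₐ[k] MvPolynomial (Fin (d + 1)) k ⧸ I := hom2 f I
      have hh : h = (Ideal.Quotient.mkₐ k I).comp (aeval fun j => MvPolynomial.map (Int.castRingHom k) (w₀ j)) := by
        refine MvPolynomial.algHom_ext fun j => ?_
        have h1 : (finSuccEquiv k d).symm (Polynomial.C (X j)) = X j.succ := by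
          rw [AlgEquiv.symm_apply_eq, finSuccEquiv_X_succ]
        rw [AlgHom.comp_apply, aeval_X, map_sub, map_pow, map_X, map_X]
        change Ideal.Quotient.mk I
          (NoetherNormalization.T1 f (-1) ((finSuccEquiv k d).symm (Polynomial.C (X j)))) = _
        rw [h1, aeval_X, if_neg (Fin.succ_ne_zero j), neg_one_smul, sub_eq_add_neg]
        rfl
      have hint : h.toRingHom.IsIntegral := hom2_isIntegral f I fne fi
      haveI : Nontrivial (MvPolynomial (Fin (d + 1)) k ⧸ I) := Ideal.Quotient.nontrivial_iff.mpr hI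
      obtain ⟨r, y, hy, hinj, hin⟩ := hd (RingHom.ker h) (RingHom.ker_ne_top h.toRingHom)
      refine ⟨r, fun i => aeval (fun j => MvPolynomial.map (Int.castRingHom k) (w₀ j)) (y i), fun i => ?_, ?_⟩
      · obtain ⟨z, hz⟩ := hy i
        refine ⟨bind₁ w₀ z, ?_⟩
        beta_reduce
        rw [← hz, map_bind₁]
        rfl
      have hcomp : (Ideal.Quotient.mkₐ k I).comp
          (aeval fun i => aeval (fun j => MvPolynomial.map (Int.castRingHom k) (w₀ j)) (y i)) =
          (Ideal.kerLiftAlg h).comp ((Ideal.Quotient.mkₐ k (RingHom.ker h)).comp (aeval y)) := by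
        refine MvPolynomial.algHom_ext fun i => ?_
        rw [AlgHom.comp_apply, aeval_X, AlgHom.comp_apply, AlgHom.comp_apply, aeval_X]
        exact ((Ideal.kerLiftAlg_mk h _).trans (AlgHom.congr_fun hh _)).symm
      rw [hcomp]
      refine ⟨(Ideal.kerLiftAlg_injective h).comp hinj, RingHom.IsIntegral.trans _ _ hin ?_⟩
      refine RingHom.IsIntegral.tower_top (Ideal.Quotient.mk (RingHom.ker h)) _ ?_
      have e : ((Ideal.kerLiftAlg h).toRingHom).comp (Ideal.Quotient.mk (RingHom.ker h)) = h.toRingHom :=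
        RingHom.ext fun a => Ideal.kerLiftAlg_mk h a
      exact e.symm ▸ hint

end Groth.Agent.IntNoether
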